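/-
NGRP corollaries, part 4: the two-variable law of Bray, Wilson and Wilson.
-/
import Cfsg.Agent.Even.NGrp.Tri
import Cfsg.Statements.S3936

set_option autoImplicit false
open Cfsg Subgroup
open scoped MatrixGroups commutatorElement

namespace CL.NGrp

universe u

variable {G G' : Type*} [Group G] [Group G']

/-- one step of the sequence -/
def bw (y s : G) : G := (y⁻¹ * s * y) * (s⁻¹) * (y⁻¹ * s * y)⁻¹ * (s⁻¹)⁻¹

theorem map_bw (f : G →* G') (y s : G) : f (bw y s) = bw (f y) (f s) := by simp [bw]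

/-- the sequence -/
def bwSeq (x y : G) (n : ℕ) : G := @Nat.rec (fun _ => G) x (fun _ s => bw y s) n

theorem map_bwSeq (f : G →* G') (x y : G) (n : ℕ) : f (bwSeq x y n) = bwSeq (f x) (f y) n := by
  induction n with
  | zero => rfl
  | succ n ih => exact (map_bw f y _).trans (congrArg _ ih)

/-- an invariant set that avoids the identity -/
def BW (G : Type*) [Group G] : Prop :=
  ∃ (y : G) (S : G → Prop), (∃ x, S x) ∧ ¬ S 1 ∧ ∀ s, S s → S (bw y s)

theorem BW.exists_ne (h : BW G) : ∃ x y : G, ∀ n, bwSeq x y n ≠ 1 := by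
  obtain ⟨y, S, ⟨x, hx⟩, h1, h2⟩ := h
  have : ∀ n, S (bwSeq x y n) := fun n => by
    induction n with
    | zero => exact hx
    | succ n ih => exact h2 _ ih
  exact ⟨x, y, fun n e => h1 (e ▸ this n)⟩

theorem BW.of_equiv (e : G ≃* G') (h : BW G') : BW G := by
  obtain ⟨y, S, ⟨x, hx⟩, h1, h2⟩ := h
  refine ⟨e.symm y, fun s => S (e s), ⟨e.symm x, by simpa⟩, by simpa, fun s hs => ?_⟩
  have := map_bw e.toMonoidHom (e.symm y) s
  simp only [MulEquiv.toMonoidHom_eq_coe, MonoidHom.coe_coe, MulEquiv.apply_symm_apply] at this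
  show S (e (bw (e.symm y) s))
  rw [this]
  exact h2 _ hs

/-- a four-group whose involutions fix exactly one point -/
theorem bw_of_action {Ω : Type*} [MulAction G Ω] (o : Ω) {y j k : G} (y2 : y * y = 1) (j2 : j * j = 1)
    (k2 : k * k = 1) (hc : j * y = y * j) (hy : ∀ p : Ω, y • p = p ↔ p = o) (hj : ∀ p : Ω, j • p = p ↔ p = o)
    (hjy : ∀ p : Ω, (j * y) • p = p ↔ p = o) (hk : k • o ≠ o) : BW G := by
  refine ⟨y, fun s => ∃ j k : G, j * j = 1 ∧ k * k = 1 ∧ j * y = y * j ∧ (∀ p : Ω, j • p = p ↔ p = o) ∧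
    (∀ p : Ω, (j * y) • p = p ↔ p = o) ∧ k • o ≠ o ∧ s = j * k, ⟨_, j, k, j2, k2, hc, hj, hjy, hk, rfl⟩, ?_, ?_⟩
  · rintro ⟨j, k, a, b, -, c, -, d, e⟩
    obtain rfl : j = k := by rw [← inv_eq_of_mul_eq_one_right b]; exact eq_inv_of_mul_eq_one_left e.symm
    exact d ((c o).2 rfl)
  · rintro _ ⟨j, k, a, b, c, d, e, f, rfl⟩
    have y' := inv_eq_of_mul_eq_one_right y2
    have j' := inv_eq_of_mul_eq_one_right a
    have k' := inv_eq_of_mul_eq_one_right b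
    have jy : j * y * (j * y) = 1 := by rw [mul_assoc, ← mul_assoc y, ← c, mul_assoc, y2, mul_one, a]
    have g : (k * y * k)⁻¹ = k * y * k := by simp only [mul_inv_rev, y', k', mul_assoc]
    refine ⟨j * y, k * y * k * (j * y) * (k * y * k)⁻¹, jy, by rw [conj_mul, jy, mul_one, mul_inv_cancel],
      by rw [mul_assoc, y2, mul_one, c, ← mul_assoc, y2, one_mul], e, by rwa [mul_assoc, y2, mul_one], ?_, ?_⟩
    · rw [Ne, mul_smul, mul_smul (k * y * k), smul_eq_iff_eq_inv_smul, e, g, mul_smul, mul_smul,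
        smul_eq_iff_eq_inv_smul, k', hy]
      exact f
    · have jyj : j * (y * j) = y := by rw [← c, ← mul_assoc, a, one_mul]
      rw [g]
      simp only [bw, mul_inv_rev, y', j', k', inv_inv]
      calc _ = y * j * (k * y * k) * (j * y) * k * (j * (y * j)) * k := by simp only [mul_assoc]
        _ = _ := by rw [jyj, ← c]; simp only [mul_assoc]

theorem bw_sz {F : Type*} [Field F] (M : CL.Chev.Sz.Model G F) : BW G := by
  obtain ⟨a, a0, a1⟩ := M.big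
  have h2 := M.toTits.add_self
  have key : ∀ b : F, b ≠ 0 → ∀ p : M.Pt, M.T 0 b • p = p ↔ p = M.inf := by
    intro b hb p
    rcases M.pt_cases p with rfl | ⟨x, y, rfl⟩ <;> simp [hb]
  refine bw_of_action M.inf (y := M.T 0 1) (j := M.T 0 a) (k := M.w) ?_ ?_ M.w_mul_w ?_ (key 1 one_ne_zero) (key a a0)
    ?_ (by simp)
  · simp [M.T_mul, M.T_eq_one, h2]
  · simp [M.T_mul, M.T_eq_one, h2]
  · simp [M.T_mul, add_comm]
  · simpa [M.T_mul] using key (a + 1) fun h => a1 (M.toTits.add_eq_zero.1 h)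

section L2
open CL.SL2 Matrix
variable {F : Type*} [Field F]

theorem sl_mul_sl (a b c d a' b' c' d' : F) (h : a * d - b * c = 1) (h' : a' * d' - b' * c' = 1) :
    sl a b c d h * sl a' b' c' d' h' = sl (a * a' + b * c') (a * b' + b * d') (c * a' + d * c') (c * b' + d * d')
      (by linear_combination (a' * d' - b' * c') * h + h') :=
  Subtype.ext (Matrix.mul_fin_two a b c d a' b' c' d')

theorem inv_sl (a b c d : F) (h : a * d - b * c = 1) :
    (sl a b c d h)⁻¹ = sl d (-b) (-c) a (by linear_combination h) :=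
  Subtype.ext (Matrix.adjugate_fin_two_of a b c d)

theorem bw_traces (a b c d : F) (h : a * d - b * c = 1) :
    ∃ (a' b' c' d' : F) (h' : a' * d' - b' * c' = 1), bw (sl 0 1 (-1) 0 (by simp)) (sl a b c d h) = sl a' b' c' d' h' ∧
      a' + d' = ((a - d) ^ 2 + (b + c) ^ 2) * (b - c) ^ 2 + 2 ∧
      b' - c' = -(((a - d) ^ 2 + (b + c) ^ 2) * (b - c) * (a + d)) := by
  have key : ∀ g : SL(2, F), g 0 0 + g 1 1 = ((a - d) ^ 2 + (b + c) ^ 2) * (b - c) ^ 2 + 2 →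
      g 0 1 - g 1 0 = -(((a - d) ^ 2 + (b + c) ^ 2) * (b - c) * (a + d)) →
      ∃ (a' b' c' d' : F) (h' : a' * d' - b' * c' = 1), g = sl a' b' c' d' h' ∧
      a' + d' = ((a - d) ^ 2 + (b + c) ^ 2) * (b - c) ^ 2 + 2 ∧
      b' - c' = -(((a - d) ^ 2 + (b + c) ^ 2) * (b - c) * (a + d)) := fun g h1 h2 =>
    ⟨_, _, _, _, sl_det g, Subtype.ext (Matrix.eta_fin_two _), h1, h2⟩
  refine key _ ?_ ?_
  all_goals simp only [bw, inv_sl, sl_mul_sl]; simp only [sl, of_apply, cons_val', cons_val_zero, cons_val_one, cons_val_fin_one]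
  · linear_combination (2 * (a * d - b * c) + 2) * h
  · ring

theorem bw_psl_of {a b c d : F} (h : a * d - b * c = 1) (h1 : a + d ≠ 0) (h2 : b - c ≠ 0)
    (h3 : (a - d) ^ 2 + (b + c) ^ 2 ≠ 0) (h4 : ∀ x : F, x ≠ 0 → ((a - d) ^ 2 + (b + c) ^ 2) * x ^ 2 + 2 ≠ 0) :
    BW PSL(2, F) := by
  refine ⟨(sl 0 1 (-1) 0 (by simp) : SL(2, F)), fun s => ∃ (a b c d : F) (h : a * d - b * c = 1), a + d ≠ 0 ∧
    b - c ≠ 0 ∧ (a - d) ^ 2 + (b + c) ^ 2 ≠ 0 ∧ (∀ x : F, x ≠ 0 → ((a - d) ^ 2 + (b + c) ^ 2) * x ^ 2 + 2 ≠ 0) ∧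
    s = (sl a b c d h : SL(2, F)), ⟨_, a, b, c, d, h, h1, h2, h3, h4, rfl⟩, ?_, ?_⟩
  · rintro ⟨a, b, c, d, h, -, h2, -, -, e⟩
    have e1 : b = 0 := by_contra fun hb => psl_mk_ne_one (g := sl a b c d h) (i := 0) (j := 1) (by decide) hb e.symm
    have e2 : c = 0 := by_contra fun hb => psl_mk_ne_one (g := sl a b c d h) (i := 1) (j := 0) (by decide) hb e.symm
    exact h2 (by simp [e1, e2])
  · rintro _ ⟨a, b, c, d, h, h1, h2, h3, h4, rfl⟩
    obtain ⟨a', b', c', d', h', e, e1, e2⟩ := bw_traces a b c d h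
    obtain ⟨T, hT⟩ : ∃ T, T = (a - d) ^ 2 + (b + c) ^ 2 := ⟨_, rfl⟩
    rw [← hT] at h3 h4 e1 e2
    have hT' : (a + d) ^ 2 + (b - c) ^ 2 = T + 4 := by linear_combination 4 * h - hT
    have e3 : (a' - d') ^ 2 + (b' + c') ^ 2 = T * ((b - c) * (T + 2)) ^ 2 := by
      have : (a' - d') ^ 2 + (b' + c') ^ 2 = (a' + d') ^ 2 + (b' - c') ^ 2 - 4 := by linear_combination (-4) * h'
      rw [this, e1, e2]
      linear_combination T ^ 2 * (b - c) ^ 2 * hT'
    have h5 : (b - c) * (T + 2) ≠ 0 := mul_ne_zero h2 (by simpa using h4 1 one_ne_zero)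
    refine ⟨a', b', c', d', h', e1 ▸ h4 _ h2, ?_, ?_, fun x hx => ?_, ?_⟩
    · rw [e2]; exact neg_ne_zero.2 (mul_ne_zero (mul_ne_zero h3 h2) h1)
    · rw [e3]; exact mul_ne_zero h3 (pow_ne_zero 2 h5)
    · rw [e3, mul_assoc, ← mul_pow]; exact h4 _ (mul_ne_zero h5 hx)
    · rw [← e]; exact (map_bw (QuotientGroup.mk' _) _ _).symm

theorem bw_psl [Fintype F] (h4 : 4 ≤ Fintype.card F) (h5 : Fintype.card F ≠ 5) : BW PSL(2, F) := by
  classical
  by_cases hz : ∀ z : F, z ^ 2 + 2 ≠ 0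
  · exact bw_psl_of (a := 1) (b := 1) (c := 0) (d := 1) (by simp) (by simpa [one_add_one_eq_two] using hz 0)
      (by simp) (by simp) fun x _ => by simpa using hz x
  push Not at hz
  obtain ⟨z, hz⟩ := hz
  obtain ⟨l, hl⟩ : ∃ l : Fˣ, l ^ 4 ≠ 1 := by
    obtain ⟨l, hl⟩ := IsCyclic.exists_ofOrder_eq_natCard (α := Fˣ)
    refine ⟨l, fun h => ?_⟩
    have h1 := orderOf_dvd_of_pow_eq_one h
    rw [hl, Nat.card_units, Nat.card_eq_fintype_card] at h1
    have h2 := Nat.le_of_dvd (by norm_num) h1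
    obtain h | h : Fintype.card F - 1 = 3 ∨ Fintype.card F - 1 = 4 := by omega
    · rw [h] at h1; norm_num at h1
    · omega
  have l0 := l.ne_zero
  have l4 : (l : F) ^ 4 - 1 ≠ 0 := fun h => hl (Units.ext (by simpa [sub_eq_zero] using h))
  have l1 : (l : F) + (l : F)⁻¹ ≠ 0 := fun h => l4 (by field_simp at h; linear_combination ((l : F) ^ 2 - 1) * h)
  have l2 : (l : F) - (l : F)⁻¹ ≠ 0 := fun h => l4 (by field_simp at h; linear_combination ((l : F) ^ 2 + 1) * h)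
  obtain ⟨x, y, x0, y0, h1, h2⟩ : ∃ x y : F, x ≠ 0 ∧ y ≠ 0 ∧ x ^ 2 + y ^ 2 ≠ 0 ∧
      ∀ w : F, w ≠ 0 → (x ^ 2 + y ^ 2) * w ^ 2 + 2 ≠ 0 := by
    by_cases h2 : ringChar F = 2
    · have : CharP F 2 := ringChar.of_eq h2
      have e : (l : F) ^ 2 + (l : F)⁻¹ ^ 2 = ((l : F) + (l : F)⁻¹) ^ 2 := (CharTwo.add_sq _ _).symm
      refine ⟨l, (l : F)⁻¹, l0, inv_ne_zero l0, e ▸ pow_ne_zero 2 l1, fun w hw => ?_⟩
      rw [e, CharTwo.two_eq_zero (R := F), add_zero]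
      exact mul_ne_zero (pow_ne_zero 2 l1) (pow_ne_zero 2 hw)
    · obtain ⟨n, hn⟩ := FiniteField.exists_nonsquare h2
      obtain ⟨x, y, e⟩ := FiniteField.exists_root_sum_quadratic (R := F) (f := Polynomial.X ^ 2)
        (g := Polynomial.X ^ 2 - Polynomial.C n) (Polynomial.degree_X_pow 2) (Polynomial.degree_X_pow_sub_C two_pos n)
        (FiniteField.odd_card_of_char_ne_two h2)
      replace e : x ^ 2 + y ^ 2 = n := by
        simp only [Polynomial.eval_pow, Polynomial.eval_X, Polynomial.eval_sub, Polynomial.eval_C] at e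
        linear_combination e
      refine ⟨x, y, fun h => hn ⟨y, by rw [← e, h]; ring⟩, fun h => hn ⟨x, by rw [← e, h]; ring⟩,
        fun h => hn ⟨0, by rw [← e, h]; ring⟩, fun w hw h => hn ⟨z / w, ?_⟩⟩
      field_simp
      linear_combination h - hz - w ^ 2 * e
  have c0 : ((l : F) - (l : F)⁻¹) / x ≠ 0 := div_ne_zero l2 x0
  have e : ((l : F) - (l : F)⁻¹) ^ 2 + (((l : F) - (l : F)⁻¹) / x * y + 0) ^ 2 =
      (x ^ 2 + y ^ 2) * (((l : F) - (l : F)⁻¹) / x) ^ 2 := by field_simp; ring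
  refine bw_psl_of (a := l) (b := ((l : F) - (l : F)⁻¹) / x * y) (c := 0) (d := (l : F)⁻¹) (by simp) l1
    (by simpa only [sub_zero] using mul_ne_zero c0 y0) (e ▸ mul_ne_zero h1 (pow_ne_zero 2 c0)) fun w hw => ?_
  rw [e, mul_assoc, ← mul_pow]
  exact h2 _ (mul_ne_zero c0 hw)

end L2

theorem bw_eq_of {y s y' s' t : G} (h1 : y * y' = 1) (h2 : s * s' = 1) (h : y' * s * y * s' * (y' * s' * y) * s = t) :
    bw y s = t := by
  rw [← h, ← inv_eq_of_mul_eq_one_right h1, ← inv_eq_of_mul_eq_one_right h2]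
  simp [bw, mul_assoc]

def l33y : SL(3, ZMod 3) := ⟨!![1, 0, 0; 0, 2, 2; 0, 1, 0], by decide⟩
def l33y' : SL(3, ZMod 3) := ⟨!![1, 0, 0; 0, 0, 1; 0, 2, 2], by decide⟩
def l33s : SL(3, ZMod 3) := ⟨!![0, 0, 1; 0, 1, 1; 2, 1, 1], by decide⟩
def l33s' : SL(3, ZMod 3) := ⟨!![0, 1, 2; 2, 1, 0; 1, 0, 0], by decide⟩
def l33t : SL(3, ZMod 3) := ⟨!![2, 0, 1; 1, 2, 1; 0, 1, 2], by decide⟩
def l33t' : SL(3, ZMod 3) := ⟨!![0, 1, 1; 1, 1, 2; 1, 1, 1], by decide⟩
def l33u : SL(3, ZMod 3) := ⟨!![1, 2, 2; 1, 0, 1; 0, 1, 0], by decide⟩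
def l33u' : SL(3, ZMod 3) := ⟨!![2, 2, 2; 0, 0, 1; 1, 2, 1], by decide⟩

theorem bw_SL33 : BW SL(3, ZMod 3) := by
  have h : ¬ ((1 : SL(3, ZMod 3)) = l33s ∨ (1 : SL(3, ZMod 3)) = l33t ∨ (1 : SL(3, ZMod 3)) = l33u) := by
    decide +kernel
  refine ⟨l33y, fun s => s = l33s ∨ s = l33t ∨ s = l33u, ⟨_, .inl rfl⟩, h, ?_⟩
  rintro _ (rfl | rfl | rfl)
  · exact .inr (.inl (bw_eq_of (y' := l33y') (s' := l33s') (by decide +kernel) (by decide +kernel) (by decide +kernel)))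
  · exact .inr (.inr (bw_eq_of (y' := l33y') (s' := l33t') (by decide +kernel) (by decide +kernel) (by decide +kernel)))
  · exact .inl (bw_eq_of (y' := l33y') (s' := l33u') (by decide +kernel) (by decide +kernel) (by decide +kernel))

theorem MSList.bw (h : MSList G) : BW G := by
  have key : ∀ q, 4 ≤ q → q ≠ 5 → IsL2 G q → BW G := by
    rintro _ a b ⟨F, _, _, rfl, ⟨e⟩⟩
    exact (bw_psl a b).of_equiv e
  rcases h with ⟨q, hq, h⟩ | h | ⟨m, hm, h⟩
  · by_cases h5 : q = 5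
    · exact key 4 le_rfl (by norm_num) (IsL2.four_of_five (h5 ▸ h))
    · exact key q hq h5 h
  · obtain ⟨e⟩ := h.nonempty_equiv_three
    exact bw_SL33.of_equiv e
  · obtain ⟨F, _, _, -, ⟨M⟩⟩ := h.exists_model hm
    exact bw_sz M

theorem s3936_of (h : MinSimpleThm.{u}) : type_of% @Cfsg.CfsgFrozen.S3936.{u} := by
  intro G _ _
  change _ ↔ ∃ n, ∀ x y : G, bwSeq x y n = 1
  constructor
  · rintro ⟨n, hn⟩
    have key : ∀ (x y : G) (n : ℕ), bwSeq x y n ∈ derivedSeries G n := fun x y n => by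
      induction n with
      | zero => trivial
      | succ n ih =>
        exact commutator_mem_commutator ((derivedSeries_normal G n).conj_mem' _ ih y) (inv_mem ih)
    exact ⟨n, fun x y => mem_bot.1 (hn ▸ key x y n)⟩
  refine solvable_of_closed (P := fun G _ => ∃ n, ∀ x y : G, bwSeq x y n = 1) ?_ ?_ ?_ G
  · rintro G _ _ H ⟨n, hn⟩
    exact ⟨n, fun x y => Subtype.ext ((map_bwSeq H.subtype x y n).trans (hn _ _))⟩
  · rintro G _ _ N _ _ _ _ _ ⟨n, hn⟩
    refine ⟨n, fun x y => ?_⟩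
    obtain ⟨x, rfl⟩ := QuotientGroup.mk'_surjective N x
    obtain ⟨y, rfl⟩ := QuotientGroup.mk'_surjective N y
    rw [← map_bwSeq, hn, map_one]
  · rintro G _ _ hG ⟨n, hn⟩
    obtain ⟨x, y, e⟩ := (h.msList hG).bw.exists_ne
    exact e n (hn x y)

end CL.NGrp
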